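import Cfsg.Agent.RankTwo.PCentral
import Cfsg.Agent.Core.Frattini

/-!
Number of generators of a `p`-group, `p` odd, whose elements of order `p` are central: at most the rank of
the subgroup they form. Generators of an extension from generators of image and kernel.
-/

set_option autoImplicit false

namespace Cfsg.Agent.PGenBound

open Subgroup
open scoped commutatorElement

universe u

/-- Generators of image and kernel give generators of the group. -/
theorem gens_of_hom {G K : Type*} [Group G] [Group K] (f : G →* K) {a b : ℕ}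
    (hr : ∃ S : Finset f.range, S.card ≤ a ∧ closure (S : Set f.range) = ⊤)
    (hk : ∃ S : Finset f.ker, S.card ≤ b ∧ closure (S : Set f.ker) = ⊤) :
    ∃ S : Finset G, S.card ≤ a + b ∧ closure (S : Set G) = ⊤ := by
  classical
  obtain ⟨S, hS, hScl⟩ := hr
  obtain ⟨T, hT, hTcl⟩ := hk
  choose pre hpre using fun y : f.range => f.rangeRestrict_surjective y
  refine ⟨S.image pre ∪ T.image f.ker.subtype, le_trans (Finset.card_union_le _ _)
    (Nat.add_le_add (Finset.card_image_le.trans hS) (Finset.card_image_le.trans hT)), ?_⟩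
  rw [Finset.coe_union, Finset.coe_image, Finset.coe_image, Subgroup.closure_union,
    ← MonoidHom.map_closure f.ker.subtype, hTcl, ← MonoidHom.range_eq_map, range_subtype,
    ← MonoidHom.ker_rangeRestrict, ← comap_map_eq, MonoidHom.map_closure, ← Set.image_comp]
  rw [show f.rangeRestrict ∘ pre = id from funext hpre, Set.image_id, hScl, comap_top]

variable {p : ℕ} [hp : Fact p.Prime]

theorem gens_of_pCentral_aux (hp2 : p ≠ 2) : ∀ (n : ℕ) (G : Type u) [Group G] [Finite G],
    Nat.card G = n → IsPGroup p G → (∀ z : G, z ^ p = 1 → z ∈ center G) →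
    ∀ e : ℕ, Nat.card {z : G // z ^ p = 1} ≤ p ^ e →
    ∃ S : Finset G, S.card ≤ e ∧ closure (S : Set G) = ⊤ := by
  classical
  intro n
  induction n using Nat.strong_induction_on with
  | _ n ih =>
  intro G _ _ hn hG hc e he
  subst hn
  by_cases htriv : Subsingleton G
  · exact ⟨∅, by simp, Subsingleton.elim _ _⟩
  haveI := not_subsingleton_iff_nontrivial.mp htriv
  let H : Subgroup G :=
    { carrier := {z | z ^ p = 1}
      one_mem' := one_pow p
      mul_mem' := fun {a b} (ha : a ^ p = 1) (hb : b ^ p = 1) => by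
        show (a * b) ^ p = 1
        rw [(show Commute a b from (mem_center_iff.mp (hc a ha) b).symm).mul_pow, ha, hb, one_mul]
      inv_mem' := fun {a} (ha : a ^ p = 1) => by
        show a⁻¹ ^ p = 1
        rw [inv_pow, ha, inv_one] }
  have hHn : H.Normal := ⟨fun z (hz : z ^ p = 1) g => by
    show (g * z * g⁻¹) ^ p = 1
    rw [conj_pow, hz, mul_one, mul_inv_cancel]⟩
  have hHe : Nat.card H ≤ p ^ e := he
  obtain ⟨w, hw⟩ := exists_prime_orderOf_dvd_card' p
    (hG.card_eq_or_dvd.resolve_left (Finite.one_lt_card (α := G)).ne')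
  have hwH : w ∈ H := show w ^ p = 1 from hw ▸ pow_orderOf_eq_one w
  have hw1 : w ≠ 1 := fun h => hp.out.one_lt.ne (by rw [← hw, h, orderOf_one])
  haveI := hG.isNilpotent
  by_cases hΦ : H ≤ frattini G
  · let L : Subgroup G :=
      { carrier := {x | (x ^ p) ^ p = 1}
        one_mem' := by simp
        mul_mem' := fun {x y} (hx : (x ^ p) ^ p = 1) (hy : (y ^ p) ^ p = 1) => by
          show ((x * y) ^ p) ^ p = 1
          rw [(RankTwo.pow_mul_of_pCentral hp2 hG hc hx y).2.2,
            (show Commute (y ^ p) (x ^ p) from mem_center_iff.mp (hc _ hx) _).symm.mul_pow, hx, hy, one_mul]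
        inv_mem' := fun {x} (hx : (x ^ p) ^ p = 1) => by
          show (x⁻¹ ^ p) ^ p = 1
          rw [inv_pow, inv_pow, hx, inv_one] }
    let f : L →* H := MonoidHom.mk' (fun x => ⟨(x : G) ^ p, x.2⟩)
      fun x y => Subtype.ext (RankTwo.pow_mul_of_pCentral hp2 hG hc x.2 (y : G)).2.2
    set π := QuotientGroup.mk' H
    have hQmem : ∀ q : G ⧸ H, q ^ p = 1 → q ∈ L.map π := by
      intro q hq
      obtain ⟨x, rfl⟩ := QuotientGroup.mk'_surjective H q
      rw [← map_pow] at hq
      exact mem_map_of_mem π (show x ∈ L from ((QuotientGroup.eq_one_iff (x ^ p)).mp hq : x ^ p ∈ H))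
    have hfker : f.ker = H.subgroupOf L := by
      ext x
      rw [MonoidHom.mem_ker, mem_subgroupOf]
      exact ⟨fun h => (congrArg Subtype.val h :), fun h => Subtype.ext h⟩
    have hQcard : Nat.card {q : G ⧸ H // q ^ p = 1} ≤ p ^ e := by
      refine le_trans (Nat.card_le_card_of_injective (fun q => (⟨q.1, hQmem q.1 q.2⟩ : L.map π))
        fun a b hab => Subtype.ext (congrArg (fun t : L.map π => (t : G ⧸ H)) hab)) (le_trans ?_ hHe)
      rw [← relIndex_ker, QuotientGroup.ker_mk', relIndex, ← hfker, index_ker]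
      exact Nat.le_of_dvd Nat.card_pos (card_subgroup_dvd_card f.range)
    have hQc : ∀ q : G ⧸ H, q ^ p = 1 → q ∈ center (G ⧸ H) := by
      intro q hq
      obtain ⟨x, hx, rfl⟩ := hQmem q hq
      refine mem_center_iff.mpr fun q' => ?_
      obtain ⟨g, rfl⟩ := QuotientGroup.mk'_surjective H q'
      rw [← commutatorElement_eq_one_iff_mul_comm, ← map_commutatorElement]
      exact (QuotientGroup.eq_one_iff _).mpr (RankTwo.pow_mul_of_pCentral hp2 hG hc hx g).1
    have hlt : Nat.card (G ⧸ H) < Nat.card G := by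
      rw [← index_eq_card, ← H.index_mul_card]
      exact lt_mul_of_one_lt_right (Nat.pos_of_ne_zero index_ne_zero_of_finite)
        ((one_lt_card_iff_ne_bot H).mpr fun h => hw1 (mem_bot.mp (h ▸ hwH)))
    obtain ⟨S, hS, hScl⟩ := ih _ hlt (G ⧸ H) rfl (hG.to_quotient H) hQc e hQcard
    choose pre hpre using QuotientGroup.mk'_surjective H
    refine ⟨S.image pre, Finset.card_image_le.trans hS, frattini_nongenerating (top_le_iff.mp ?_)⟩
    refine le_trans ?_ (sup_le_sup_left hΦ _)
    rw [Finset.coe_image]
    refine le_trans ?_ (sup_le_sup_left (QuotientGroup.ker_mk' H).le _)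
    rw [← comap_map_eq, MonoidHom.map_closure, ← Set.image_comp,
      show π ∘ pre = id from funext hpre, Set.image_id, hScl, comap_top]
  · obtain ⟨z, hzH, hzΦ⟩ := SetLike.not_le_iff_exists.mp hΦ
    obtain ⟨M, hM, hzM⟩ : ∃ M : Subgroup G, IsCoatom M ∧ z ∉ M := by
      by_contra hall
      push Not at hall
      exact hzΦ (by rw [frattini, Order.radical, mem_iInf]; exact fun M => mem_iInf.mpr fun hM => hall M hM)
    have hMc : ∀ a : M, a ^ p = 1 → a ∈ center M := fun a ha => mem_center_iff.mpr fun b =>
      Subtype.ext (mem_center_iff.mp (hc a (by simpa using congrArg Subtype.val ha)) b)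
    have hlt2 : Nat.card {a : M // a ^ p = 1} < p ^ e := by
      let g : {a : M // a ^ p = 1} → {z : G // z ^ p = 1} :=
        fun a => ⟨(a : M), by simpa using congrArg Subtype.val a.2⟩
      have hg : Function.Injective g :=
        fun a b hab => Subtype.ext (Subtype.ext (congrArg (fun t : {z : G // z ^ p = 1} => (t : G)) hab :))
      refine lt_of_lt_of_le (lt_of_le_of_ne (Nat.card_le_card_of_injective g hg) fun heq => ?_) he
      obtain ⟨a, ha⟩ := ((Nat.bijective_iff_injective_and_card g).mpr ⟨hg, heq⟩).2 ⟨z, hzH⟩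
      have h3 : (a.1 : G) = z := (congrArg (fun t : {z : G // z ^ p = 1} => (t : G)) ha :)
      exact hzM (h3 ▸ a.1.2)
    have hMe : Nat.card {a : M // a ^ p = 1} ≤ p ^ (e - 1) := by
      obtain ⟨j, hj⟩ : ∃ j, Nat.card {a : M // a ^ p = 1} = p ^ j := by
        let K : Subgroup M := H.subgroupOf M
        obtain ⟨j, hj⟩ := IsPGroup.iff_card.mp ((hG.to_subgroup M).to_subgroup K)
        refine ⟨j, hj ▸ Nat.card_congr (Equiv.subtypeEquivRight fun a => ?_)⟩
        exact ⟨fun h => show (a : G) ^ p = 1 by simpa using congrArg Subtype.val h,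
          fun h => Subtype.ext (show (a : G) ^ p = 1 from h)⟩
      rw [hj] at hlt2 ⊢
      exact Nat.pow_le_pow_right hp.out.pos
        (by have := (Nat.pow_lt_pow_iff_right hp.out.one_lt).mp hlt2; omega)
    have he1 : 1 ≤ e := by
      by_contra h0
      rw [Nat.lt_one_iff.mp (not_le.mp h0), pow_zero] at hlt2
      haveI : Nonempty {a : M // a ^ p = 1} := ⟨⟨1, one_pow p⟩⟩
      exact absurd (Nat.card_pos (α := {a : M // a ^ p = 1})) (by omega)
    have hltM : Nat.card M < Nat.card G :=
      lt_of_le_of_ne (Nat.le_of_dvd Nat.card_pos (card_subgroup_dvd_card M))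
        fun h => hM.1 (eq_top_of_card_eq M h)
    obtain ⟨S, hS, hScl⟩ := ih _ hltM M rfl (hG.to_subgroup M) hMc (e - 1) hMe
    refine ⟨insert z (S.image M.subtype), (Finset.card_insert_le _ _).trans
      (by have := (Finset.card_image_le (s := S) (f := M.subtype)).trans hS; omega), ?_⟩
    refine hM.2 _ (lt_of_le_of_ne ?_ fun h => hzM (h ▸ subset_closure (by simp)))
    calc M = (⊤ : Subgroup M).map M.subtype := by rw [← MonoidHom.range_eq_map, range_subtype]
      _ ≤ _ := by
        rw [← hScl, MonoidHom.map_closure]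
        exact closure_mono (by simp)

/-- `p` odd, elements of order `p` central, at most `p ^ e` of them: `e` generators suffice. -/
theorem gens_of_pCentral {G : Type u} [Group G] [Finite G] (hp2 : p ≠ 2) (hG : IsPGroup p G)
    (hc : ∀ z : G, z ^ p = 1 → z ∈ center G) {e : ℕ} (he : Nat.card {z : G // z ^ p = 1} ≤ p ^ e) :
    ∃ S : Finset G, S.card ≤ e ∧ closure (S : Set G) = ⊤ :=
  gens_of_pCentral_aux hp2 _ G rfl hG hc e he

/-- A subgroup generated by `k` elements inside a commutative group of exponent `p` has order at most `p ^ k`. -/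
theorem card_closure_le {G : Type u} [Group G] [Finite G] {A : Subgroup G} (hA : IsMulCommutative A)
    (hexp : ∀ a ∈ A, a ^ p = 1) (S : Finset G) (hS : closure (S : Set G) = A) :
    Nat.card A ≤ p ^ S.card := by
  classical
  haveI := hA
  letI : CommGroup A := { (inferInstance : Group A) with mul_comm := IsMulCommutative.is_comm.comm }
  have hone : ∀ a : A, a ^ p = 1 := fun a => Subtype.ext (by simpa using hexp a a.2)
  let ψ : S → (Multiplicative (ZMod p) →* A) := fun s =>
    AddMonoidHom.toMultiplicativeLeft (ZMod.lift p ⟨zmultiplesHom _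
      (Additive.ofMul (⟨s.1, hS ▸ subset_closure s.2⟩ : A)), by
        rw [zmultiplesHom_apply, natCast_zsmul, ← ofMul_pow, hone, ofMul_one]⟩)
  let f : (S → Multiplicative (ZMod p)) →* A :=
    { toFun := fun v => ∏ s, ψ s (v s)
      map_one' := by simp
      map_mul' := fun v w => by simp [Finset.prod_mul_distrib] }
  have hsur : Function.Surjective f := by
    rw [← MonoidHom.range_eq_top, ← (map_injective A.subtype_injective).eq_iff, ← MonoidHom.range_eq_map,
      range_subtype]
    refine le_antisymm (map_subtype_le _) ?_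
    refine hS.symm.trans_le ((closure_le _).mpr fun s hs => ?_)
    refine ⟨f (Pi.mulSingle (⟨s, hs⟩ : S) (Multiplicative.ofAdd (1 : ZMod p))), ⟨_, rfl⟩, ?_⟩
    show ((∏ t, ψ t ((Pi.mulSingle (⟨s, hs⟩ : S) (Multiplicative.ofAdd (1 : ZMod p)) : S → Multiplicative (ZMod p)) t) : A) : G) = s
    rw [Finset.prod_eq_single (⟨s, hs⟩ : S) (fun t _ ht => by rw [Pi.mulSingle_eq_of_ne ht, map_one])
      (fun h => absurd (Finset.mem_univ _) h), Pi.mulSingle_eq_same]
    simp only [ψ, AddMonoidHom.coe_toMultiplicativeLeft, Function.comp_apply, toAdd_ofAdd]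
    rw [← Int.cast_one (R := ZMod p), ZMod.lift_coe, zmultiplesHom_apply, one_zsmul]
    rfl
  calc Nat.card A ≤ Nat.card (S → Multiplicative (ZMod p)) := Nat.card_le_card_of_surjective f hsur
    _ = p ^ S.card := by
      rw [Nat.card_fun, Nat.card_congr Multiplicative.toAdd, Nat.card_zmod, Nat.card_eq_fintype_card,
        Fintype.card_coe]

end Cfsg.Agent.PGenBound
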