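import Cfsg.Agent.UniTri.Basic
import Cfsg.Agent.Core.Frattini

/-!
Every subgroup of the unitriangular group of degree `n` over a prime field is generated by at most
`n ^ 2 / 4` elements: leading positions that are not sums of two leading positions form a triangle-free graph.
-/

set_option autoImplicit false

namespace Cfsg.Agent.PGenBound

open Matrix UniTri
open scoped MatrixGroups commutatorElement

/-- A triangle-free set of increasing pairs has at most a quarter of the square of the number of vertices. -/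
theorem mantel : ∀ (m : ℕ) (V : Finset ℕ) (T : Finset (ℕ × ℕ)), V.card = m →
    (∀ e ∈ T, e.1 ∈ V ∧ e.2 ∈ V ∧ e.1 < e.2) →
    (∀ a b c : ℕ, (a, b) ∈ T → (b, c) ∈ T → (a, c) ∉ T) → 4 * T.card ≤ m ^ 2 := by
  classical
  intro m
  induction m using Nat.strong_induction_on with
  | _ m ih =>
  intro V T hm hT htri
  rcases T.eq_empty_or_nonempty with rfl | ⟨⟨a, b⟩, hab⟩
  · simp
  obtain ⟨haV, hbV, hlt⟩ := hT _ hab
  simp only at haV hbV hlt
  set V' := (V.erase a).erase b with hV'
  have hm' : V'.card + 2 = m := by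
    have hba : b ∈ V.erase a := Finset.mem_erase.mpr ⟨hlt.ne', hbV⟩
    rw [hV', ← hm, ← Finset.card_erase_add_one haV, ← Finset.card_erase_add_one hba]
  set T' := T.filter fun e => e.1 ∈ V' ∧ e.2 ∈ V' with hT'
  have hi := ih V'.card (by omega) V' T' rfl
    (fun e he => ⟨(Finset.mem_filter.mp he).2.1, (Finset.mem_filter.mp he).2.2,
      (hT e (Finset.mem_filter.mp he).1).2.2⟩)
    fun x y z h1 h2 h3 => htri x y z (Finset.mem_filter.mp h1).1 (Finset.mem_filter.mp h2).1
      (Finset.mem_filter.mp h3).1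
  set R := (T.erase (a, b)).filter fun e => ¬ (e.1 ∈ V' ∧ e.2 ∈ V') with hR
  let other : ℕ × ℕ → ℕ := fun e => if e.1 = a ∨ e.1 = b then e.2 else e.1
  have hRmem : ∀ e ∈ R, e ∈ T ∧ e ≠ (a, b) ∧ (e.1 = a ∨ e.1 = b ∨ e.2 = a ∨ e.2 = b) := by
    intro e he
    obtain ⟨he1, he2⟩ := Finset.mem_filter.mp he
    obtain ⟨hne, heT⟩ := Finset.mem_erase.mp he1
    refine ⟨heT, hne, ?_⟩
    obtain ⟨hx, hy, -⟩ := hT e heT
    simp only [hV', Finset.mem_erase, hx, hy, and_true] at he2
    omega
  have hRcard : R.card ≤ V'.card := by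
    refine Finset.card_le_card_of_injOn other ?_ ?_
    · intro e he
      obtain ⟨heT, hne, hinc⟩ := hRmem e he
      obtain ⟨x, y⟩ := e
      obtain ⟨hx, hy, hxy⟩ := hT _ heT
      simp only at hx hy hxy hinc
      have hne' : ¬ (x = a ∧ y = b) := fun h => hne (by rw [h.1, h.2])
      simp only [other, hV', Finset.coe_erase, Set.mem_diff, Finset.mem_coe, Set.mem_singleton_iff]
      split_ifs with h
      · exact ⟨⟨hy, by omega⟩, by omega⟩
      · exact ⟨⟨hx, by omega⟩, by omega⟩
    · intro e he e' he' heq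
      obtain ⟨heT, hne, hinc⟩ := hRmem e he
      obtain ⟨heT', hne', hinc'⟩ := hRmem e' he'
      obtain ⟨x, y⟩ := e
      obtain ⟨x', y'⟩ := e'
      have hxy := (hT _ heT).2.2
      have hxy' := (hT _ heT').2.2
      simp only [other] at heq hinc hinc' hxy hxy'
      have hne1 : ¬ (x = a ∧ y = b) := fun h => hne (by rw [h.1, h.2])
      have hne2 : ¬ (x' = a ∧ y' = b) := fun h => hne' (by rw [h.1, h.2])
      by_contra hcon
      have hcon' : ¬ (x = x' ∧ y = y') := fun h => hcon (by rw [h.1, h.2])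
      split_ifs at heq with h h' h'
      · subst heq
        rcases h with rfl | rfl <;> rcases h' with rfl | rfl
        · exact hcon' ⟨rfl, rfl⟩
        · exact htri _ _ _ hab heT' heT
        · exact htri _ _ _ hab heT heT'
        · exact hcon' ⟨rfl, rfl⟩
      · subst heq
        rcases hinc' with h0 | h0 | h0 | h0
        · exact h' (Or.inl h0)
        · exact h' (Or.inr h0)
        · rcases h with h1 | h1 <;> subst h0 <;> subst h1
          · omega
          · omega
        · subst h0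
          rcases h with h1 | h1 <;> subst h1
          · exact htri _ _ _ heT heT' hab
          · omega
      · subst heq
        rcases hinc with h0 | h0 | h0 | h0
        · exact h (Or.inl h0)
        · exact h (Or.inr h0)
        · rcases h' with h1 | h1 <;> subst h0 <;> subst h1
          · omega
          · omega
        · subst h0
          rcases h' with h1 | h1 <;> subst h1
          · exact htri _ _ _ heT' heT hab
          · omega
      · subst heq
        rcases hinc with h0 | h0 | h0 | h0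
        · exact h (Or.inl h0)
        · exact h (Or.inr h0)
        all_goals rcases hinc' with h1 | h1 | h1 | h1
        all_goals first
          | exact h' (Or.inl h1)
          | exact h' (Or.inr h1)
          | (subst h0; subst h1; exact hcon' ⟨rfl, rfl⟩)
          | (subst h0; subst h1; exact htri _ _ _ heT hab heT')
          | (subst h0; subst h1; exact htri _ _ _ heT' hab heT)
  have hsplit : T.card ≤ T'.card + R.card + 1 := by
    have hsub : T ⊆ insert (a, b) (T' ∪ R) := by
      intro e he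
      simp only [Finset.mem_insert, Finset.mem_union, hT', hR, Finset.mem_filter, Finset.mem_erase]
      tauto
    exact (Finset.card_le_card hsub).trans ((Finset.card_insert_le _ _).trans
      (Nat.add_le_add_right (Finset.card_union_le _ _) 1))
  have : (V'.card + 2) ^ 2 = V'.card ^ 2 + 4 * V'.card + 4 := by ring
  rw [← hm', this]
  omega

/-- Weight of a position. -/
def wt (i j : ℕ) : ℕ := 2 ^ j - 2 ^ i

theorem wt_pos {i j : ℕ} (h : i < j) : 0 < wt i j :=
  Nat.sub_pos_of_lt (Nat.pow_lt_pow_right one_lt_two h)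

theorem wt_add {i j l : ℕ} (h1 : i ≤ j) (h2 : j ≤ l) : wt i j + wt j l = wt i l := by
  have := Nat.pow_le_pow_right two_pos h1
  have := Nat.pow_le_pow_right two_pos h2
  unfold wt; omega

theorem wt_inj {i j k l : ℕ} (h1 : i < j) (h2 : k < l) (h : wt i j = wt k l) : i = k ∧ j = l := by
  have a1 := Nat.pow_lt_pow_right one_lt_two h1
  have a2 := Nat.pow_lt_pow_right one_lt_two h2
  unfold wt at h
  have key : ∀ {i j k l : ℕ}, i < j → k < l → j < l → 2 ^ j - 2 ^ i < 2 ^ l - 2 ^ k := by
    intro i j k l h1 h2 hjl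
    have b1 : 2 ^ k ≤ 2 ^ (l - 1) := Nat.pow_le_pow_right two_pos (by omega)
    have b2 : 2 ^ j ≤ 2 ^ (l - 1) := Nat.pow_le_pow_right two_pos (by omega)
    have b3 : 2 ^ l = 2 * 2 ^ (l - 1) := by rw [← pow_succ']; congr 1; omega
    have b4 : 0 < 2 ^ i := pow_pos two_pos i
    have b5 : 2 ^ i < 2 ^ j := Nat.pow_lt_pow_right one_lt_two h1
    omega
  rcases lt_trichotomy j l with hjl | rfl | hjl
  · exact absurd h (key h1 h2 hjl).ne
  · exact ⟨Nat.pow_right_injective le_rfl (show 2 ^ i = 2 ^ k by omega), rfl⟩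
  · exact absurd h (key h2 h1 hjl).ne'

variable {n p : ℕ} [hp : Fact p.Prime]

/-- The underlying matrix. -/
local notation:max "⇈" A:max => ((A : SpecialLinearGroup (Fin n) (ZMod p)) : Matrix (Fin n) (Fin n) (ZMod p))

/-- All entries of weight below `w` above the diagonal vanish. -/
def Low (w : ℕ) (A : SpecialLinearGroup (Fin n) (ZMod p)) : Prop :=
  ∀ i j : Fin n, i < j → wt i j < w → ⇈A i j = 0

theorem entry_mul {A B : SpecialLinearGroup (Fin n) (ZMod p)} (hA : A ∈ unitri n (ZMod p))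
    (hB : B ∈ unitri n (ZMod p)) {x y : Fin n} (hxy : x < y) :
    ⇈(A * B) x y = ⇈A x y + ⇈B x y + ∑ z ∈ Finset.Ioo x y, ⇈A x z * ⇈B z y := by
  obtain ⟨hAu, hAd⟩ := mem_unitri.1 hA
  obtain ⟨hBu, hBd⟩ := mem_unitri.1 hB
  show (⇈A * ⇈B) x y = _
  rw [Matrix.mul_apply, ← Finset.sum_subset (Finset.subset_univ (insert x (insert y (Finset.Ioo x y))))]
  · rw [Finset.sum_insert (by simp [hxy.ne]), Finset.sum_insert (by simp), hAd, hBd]
    ring
  · intro z _ hz
    simp only [Finset.mem_insert, Finset.mem_Ioo, not_or] at hz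
    rcases lt_or_gt_of_ne hz.1 with h | h
    · rw [hAu x z h, zero_mul]
    · rcases lt_or_gt_of_ne hz.2.1 with h' | h'
      · exact absurd ⟨h, h'⟩ hz.2.2
      · rw [hBu z y h', mul_zero]

theorem entry_mul_low {w : ℕ} {A B : SpecialLinearGroup (Fin n) (ZMod p)} (hA : A ∈ unitri n (ZMod p))
    (hB : B ∈ unitri n (ZMod p)) (hAl : Low w A) {x y : Fin n} (hxy : x < y) (hw : wt x y ≤ w) :
    ⇈(A * B) x y = ⇈A x y + ⇈B x y := by
  rw [entry_mul hA hB hxy, add_eq_left]
  refine Finset.sum_eq_zero fun z hz => ?_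
  obtain ⟨h1, h2⟩ := Finset.mem_Ioo.mp hz
  have e1 : wt x z + wt z y = wt x y := wt_add (Fin.le_def.mp h1.le) (Fin.le_def.mp h2.le)
  have e2 : 0 < wt z y := wt_pos (Fin.lt_def.mp h2)
  rw [hAl x z h1 (by omega), zero_mul]

theorem low_mul {w : ℕ} {A B : SpecialLinearGroup (Fin n) (ZMod p)} (hA : A ∈ unitri n (ZMod p))
    (hB : B ∈ unitri n (ZMod p)) (hAl : Low w A) (hBl : Low w B) : Low w (A * B) := by
  intro x y hxy hw
  rw [entry_mul_low hA hB hAl hxy hw.le, hAl x y hxy hw, hBl x y hxy hw, add_zero]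

theorem low_pow {w : ℕ} {A : SpecialLinearGroup (Fin n) (ZMod p)} (hA : A ∈ unitri n (ZMod p))
    (hAl : Low w A) : ∀ m : ℕ, Low w (A ^ m) ∧
      ∀ x y : Fin n, x < y → wt x y ≤ w → ⇈(A ^ m) x y = (m : ZMod p) * ⇈A x y := by
  intro m
  induction m with
  | zero =>
    have h1 : ∀ x y : Fin n, x < y → ⇈(A ^ 0) x y = 0 := fun x y hxy => by
      rw [pow_zero]; exact Matrix.one_apply_ne hxy.ne
    exact ⟨fun x y hxy _ => h1 x y hxy, fun x y hxy _ => by rw [h1 x y hxy, Nat.cast_zero, zero_mul]⟩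
  | succ m ih =>
    rw [pow_succ]
    refine ⟨low_mul ((unitri n _).pow_mem hA m) hA ih.1 hAl, fun x y hxy hw => ?_⟩
    rw [entry_mul_low ((unitri n _).pow_mem hA m) hA ih.1 hxy hw, ih.2 x y hxy hw, Nat.cast_succ,
      add_mul, one_mul]

/-- Leading entry of the commutator. -/
theorem commutator_lead {w1 w2 : ℕ} {A B : SpecialLinearGroup (Fin n) (ZMod p)}
    (hA : A ∈ unitri n (ZMod p)) (hB : B ∈ unitri n (ZMod p)) (hAl : Low w1 A) (hBl : Low w2 B)
    {i j l : Fin n} (hij : i < j) (hjl : j < l) (e1 : wt i j = w1) (e2 : wt j l = w2) :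
    Low (w1 + w2) ⁅A, B⁆ ∧ ⇈⁅A, B⁆ i l = ⇈A i j * ⇈B j l := by
  set C := ⁅A, B⁆ with hC
  have hCB : C * (B * A) = A * B := by rw [hC, commutatorElement_def]; group
  have hCU : C ∈ unitri n (ZMod p) := by
    rw [hC, commutatorElement_def]
    exact mul_mem (mul_mem (mul_mem hA hB) (inv_mem hA)) (inv_mem hB)
  have hpick : ∀ x z y : Fin n, x < z → z < y → wt x y ≤ w1 + w2 →
      ⇈A x z * ⇈B z y ≠ 0 → x = i ∧ z = j ∧ y = l := by
    intro x z y h1 h2 hw hne
    have a1 : w1 ≤ wt x z := not_lt.1 fun h => hne (by rw [hAl x z h1 h, zero_mul])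
    have a2 : w2 ≤ wt z y := not_lt.1 fun h => hne (by rw [hBl z y h2 h, mul_zero])
    have a3 : wt x z + wt z y = wt x y := wt_add (Fin.le_def.mp h1.le) (Fin.le_def.mp h2.le)
    obtain ⟨r1, r2⟩ := wt_inj (Fin.lt_def.mp h1) (Fin.lt_def.mp hij) (show wt x z = wt i j by omega)
    obtain ⟨-, r3⟩ := wt_inj (Fin.lt_def.mp h2) (Fin.lt_def.mp hjl) (show wt z y = wt j l by omega)
    exact ⟨Fin.ext r1, Fin.ext r2, Fin.ext r3⟩
  have hqick : ∀ x z y : Fin n, x < z → z < y → wt x y ≤ w1 + w2 → ⇈B x z * ⇈A z y = 0 := by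
    intro x z y h1 h2 hw
    by_contra hne
    have a1 : w2 ≤ wt x z := not_lt.1 fun h => hne (by rw [hBl x z h1 h, zero_mul])
    have a2 : w1 ≤ wt z y := not_lt.1 fun h => hne (by rw [hAl z y h2 h, mul_zero])
    have a3 : wt x z + wt z y = wt x y := wt_add (Fin.le_def.mp h1.le) (Fin.le_def.mp h2.le)
    obtain ⟨-, r2⟩ := wt_inj (Fin.lt_def.mp h1) (Fin.lt_def.mp hjl) (show wt x z = wt j l by omega)
    obtain ⟨r3, -⟩ := wt_inj (Fin.lt_def.mp h2) (Fin.lt_def.mp hij) (show wt z y = wt i j by omega)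
    have := Fin.lt_def.mp hij
    have := Fin.lt_def.mp hjl
    omega
  have key : ∀ (m : ℕ) (x y : Fin n), (y : ℕ) = m → x < y → wt x y ≤ w1 + w2 →
      ⇈C x y = ∑ z ∈ Finset.Ioo x y, ⇈A x z * ⇈B z y := by
    intro m
    induction m using Nat.strong_induction_on with
    | _ m ih =>
    intro x y hm hxy hw
    have h := entry_mul hA hB hxy
    rw [← hCB, entry_mul hCU (mul_mem hB hA) hxy, entry_mul hB hA hxy,
      Finset.sum_eq_zero (f := fun z => ⇈B x z * ⇈A z y) (fun z hz => hqick x z y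
        (Finset.mem_Ioo.mp hz).1 (Finset.mem_Ioo.mp hz).2 hw),
      Finset.sum_eq_zero (f := fun z => ⇈C x z * ⇈(B * A) z y) (fun z hz => ?_)] at h
    · linear_combination h
    · obtain ⟨h1, h2⟩ := Finset.mem_Ioo.mp hz
      have a3 : wt x z + wt z y = wt x y := wt_add (Fin.le_def.mp h1.le) (Fin.le_def.mp h2.le)
      have a4 : 0 < wt z y := wt_pos (Fin.lt_def.mp h2)
      rw [ih z (by have := Fin.lt_def.mp h2; omega) x z rfl h1 (by omega),
        Finset.sum_eq_zero (fun u hu => ?_), zero_mul]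
      by_contra hne
      obtain ⟨r1, r2, r3⟩ := hpick x u z (Finset.mem_Ioo.mp hu).1 (Finset.mem_Ioo.mp hu).2 (by omega) hne
      have a5 : wt i j + wt j l = wt i l := wt_add (Fin.le_def.mp hij.le) (Fin.le_def.mp hjl.le)
      rw [r1, r3] at a3
      rw [r3] at a4
      rw [r1] at hw
      omega
  have hil : wt i j + wt j l = wt i l := wt_add (Fin.le_def.mp hij.le) (Fin.le_def.mp hjl.le)
  refine ⟨fun x y hxy hw => ?_, ?_⟩
  · rw [key y x y rfl hxy hw.le]
    refine Finset.sum_eq_zero fun z hz => ?_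
    by_contra hne
    obtain ⟨r1, r2, r3⟩ := hpick x z y (Finset.mem_Ioo.mp hz).1 (Finset.mem_Ioo.mp hz).2 hw.le hne
    rw [r1, r3] at hw
    omega
  · rw [key l i l rfl (hij.trans hjl) (by omega), Finset.sum_eq_single j]
    · intro z hz hzj
      by_contra hne
      exact hzj (hpick i z l (Finset.mem_Ioo.mp hz).1 (Finset.mem_Ioo.mp hz).2 (by omega) hne).2.1
    · intro h
      exact absurd (Finset.mem_Ioo.mpr ⟨hij, hjl⟩) h

/-- Every subgroup of the unitriangular group of degree `n` over the prime field has `n ^ 2 / 4` generators. -/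
theorem gens_unitri {U : Subgroup (SpecialLinearGroup (Fin n) (ZMod p))} (hU : U ≤ unitri n (ZMod p)) :
    ∃ S : Finset U, 4 * S.card ≤ n ^ 2 ∧ Subgroup.closure (S : Set U) = ⊤ := by
  classical
  let Lead : Fin n × Fin n → U → Prop := fun e g =>
    Low (wt e.1 e.2) (g : SpecialLinearGroup (Fin n) (ZMod p)) ∧
      ⇈(g : SpecialLinearGroup (Fin n) (ZMod p)) e.1 e.2 ≠ 0
  let Sp : Finset (Fin n × Fin n) := Finset.univ.filter fun e => e.1 < e.2 ∧ ∃ g, Lead e g
  let T : Finset (Fin n × Fin n) := Sp.filter fun e => ¬ ∃ j, (e.1, j) ∈ Sp ∧ (j, e.2) ∈ Sp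
  let pick : Fin n × Fin n → U := fun e => if h : ∃ g, Lead e g then h.choose else 1
  refine ⟨T.image pick, ?_, ?_⟩
  · refine le_trans (Nat.mul_le_mul_left 4 Finset.card_image_le) ?_
    have h2 : (T.image fun e : Fin n × Fin n => ((e.1 : ℕ), (e.2 : ℕ))).card = T.card :=
      Finset.card_image_of_injective _ fun e e' he => by
        simp only [Prod.mk.injEq] at he
        exact Prod.ext (Fin.ext he.1) (Fin.ext he.2)
    rw [← h2]
    refine mantel n (Finset.range n) _ (Finset.card_range n) ?_ ?_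
    · intro e he
      obtain ⟨e, heT, rfl⟩ := Finset.mem_image.mp he
      exact ⟨Finset.mem_range.mpr e.1.2, Finset.mem_range.mpr e.2.2,
        Fin.lt_def.mp (Finset.mem_filter.mp (Finset.mem_filter.mp heT).1).2.1⟩
    · intro a b c h1 h2 h3
      simp only [Finset.mem_image, Prod.mk.injEq, Prod.exists] at h1 h2 h3
      obtain ⟨a', b', hab, rfl, rfl⟩ := h1
      obtain ⟨b'', c', hbc, e1, rfl⟩ := h2
      obtain ⟨a'', c'', hac, e2, e3⟩ := h3
      rw [Fin.ext e1] at hbc
      rw [Fin.ext e2, Fin.ext e3] at hac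
      exact (Finset.mem_filter.mp hac).2 ⟨b', (Finset.mem_filter.mp hab).1, (Finset.mem_filter.mp hbc).1⟩
  haveI : Group.IsNilpotent U :=
    (((isPGroup_unitri (n := n) (K := ZMod p) p)).to_le hU).isNilpotent
  set K := Subgroup.closure ((T.image pick : Finset U) : Set U) with hK
  refine frattini_nongenerating (top_le_iff.mp (le_trans ?_ (sup_le_sup_left Core.commutator_le_frattini K)))
  set K' := K ⊔ commutator U
  suffices key : ∀ (d w : ℕ), 2 ^ n ≤ w + d → ∀ g : U, Low w (g : SpecialLinearGroup (Fin n) (ZMod p)) →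
      g ∈ K' from fun g _ => key (2 ^ n) 0 (by omega) g fun _ _ _ h => absurd h (Nat.not_lt_zero _)
  intro d
  induction d with
  | zero =>
    intro w hw g hg
    have hg1 : g = 1 := by
      refine Subtype.ext (Subtype.ext (Matrix.ext fun x y => ?_))
      obtain ⟨hu, hd⟩ := mem_unitri.1 (hU g.2)
      rcases lt_trichotomy x y with h | rfl | h
      · have hlt : wt x y < w := lt_of_lt_of_le (lt_of_le_of_lt (Nat.sub_le _ _)
          (Nat.pow_lt_pow_right one_lt_two y.2)) (by omega)
        rw [hg x y h hlt]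
        exact (Matrix.one_apply_ne h.ne).symm
      · rw [hd]; exact (Matrix.one_apply_eq x).symm
      · rw [hu x y h]; exact (Matrix.one_apply_ne h.ne').symm
    rw [hg1]; exact K'.one_mem
  | succ d ih =>
    intro w hw g hg
    by_cases hall : ∀ i j : Fin n, i < j → wt i j = w → ⇈(g : SpecialLinearGroup (Fin n) (ZMod p)) i j = 0
    · exact ih (w + 1) (by omega) g fun i j hij h =>
        (Nat.lt_succ_iff_lt_or_eq.mp h).elim (hg i j hij) (hall i j hij)
    push Not at hall
    obtain ⟨i, j, hij, hw', hne⟩ := hall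
    subst hw'
    -- an element of `K'` with the same leading position
    obtain ⟨t, htK, htl, htne⟩ : ∃ t ∈ K', Lead (i, j) t := by
      have hS : (i, j) ∈ Sp := Finset.mem_filter.mpr ⟨Finset.mem_univ _, hij, g, hg, hne⟩
      by_cases hdec : ∃ m, (i, m) ∈ Sp ∧ (m, j) ∈ Sp
      · obtain ⟨m, h1, h2⟩ := hdec
        obtain ⟨-, him, a, ha1, ha2⟩ := Finset.mem_filter.mp h1
        obtain ⟨-, hmj, b, hb1, hb2⟩ := Finset.mem_filter.mp h2
        obtain ⟨hc1, hc2⟩ := commutator_lead (hU a.2) (hU b.2) ha1 hb1 him hmj rfl rfl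
        have hsum : wt i m + wt m j = wt i j := wt_add (Fin.le_def.mp him.le) (Fin.le_def.mp hmj.le)
        refine ⟨⁅a, b⁆, (le_sup_right : commutator U ≤ K')
          (Subgroup.commutator_mem_commutator (Subgroup.mem_top a) (Subgroup.mem_top b)), ?_, ?_⟩
        · show Low (wt i j) _
          rw [← hsum]
          exact hc1
        · exact hc2 ▸ mul_ne_zero ha2 hb2
      · have hex : ∃ g, Lead (i, j) g := ⟨g, hg, hne⟩
        refine ⟨pick (i, j), (le_sup_left : K ≤ K') (Subgroup.subset_closure (Finset.mem_coe.mpr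
          (Finset.mem_image_of_mem pick (Finset.mem_filter.mpr ⟨hS, hdec⟩)))), ?_⟩
        show Lead (i, j) (pick (i, j))
        simp only [pick, dif_pos hex]
        exact hex.choose_spec
    set m := (-(⇈(g : SpecialLinearGroup (Fin n) (ZMod p)) i j /
      ⇈(t : SpecialLinearGroup (Fin n) (ZMod p)) i j)).val with hm
    have hg2 : g * t ^ m ∈ K' := by
      refine ih (wt i j + 1) (by omega) _ fun x y hxy hlt => ?_
      have hpow := low_pow (hU t.2) htl m
      rw [Subgroup.coe_mul, Subgroup.coe_pow, entry_mul_low (hU g.2)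
        ((unitri n _).pow_mem (hU t.2) m) hg hxy (Nat.lt_succ_iff.mp hlt), hpow.2 x y hxy
        (Nat.lt_succ_iff.mp hlt)]
      rcases Nat.lt_succ_iff_lt_or_eq.mp hlt with h | h
      · rw [hg x y hxy h, htl x y hxy h, mul_zero, add_zero]
      · obtain ⟨r1, r2⟩ := wt_inj (Fin.lt_def.mp hxy) (Fin.lt_def.mp hij) h
        rw [Fin.ext r1, Fin.ext r2, hm, ZMod.natCast_zmod_val]
        field_simp
        ring
    exact (Subgroup.mul_mem_cancel_right K' (K'.pow_mem htK m)).mp hg2

end Cfsg.Agent.PGenBound
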